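import Groth.Agent.Lib.DMV.Derived
import Groth.Agent.Lib.KoszShH13.Glue
import Groth.Agent.Lib.RHomAway9.Dual
import Groth.Prelude.Def_CxOX

/-!
Isomorphisms of the derived category are detected by derived sections over affine opens.
-/

set_option autoImplicit false
set_option linter.unusedSectionVars false
set_option linter.style.haveILetI false
set_option backward.isDefEq.respectTransparency false
set_option backward.isDefEq.respectTransparency.types false

universe u

open CategoryTheory CategoryTheory.Limits ZeroObject AlgebraicGeometry CategoryTheory.Pretriangulated Opposite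

attribute [local instance] HasDerivedCategory.standard

namespace Groth.Agent.RGammaLocal9

variable (X : Scheme.{u}) [DCoh.HasRΓ X]

/-- Global sections of complexes map to derived global sections. -/
noncomputable def gammaNat : (DCoh.gammaAb X).mapHomologicalComplex (ComplexShape.up ℤ) ⋙ DerivedCategory.Q ⟶
    DerivedCategory.Q ⋙ DCoh.RΓ X :=
  let u := (DCoh.gammaKh X).totalRightDerivedUnit DerivedCategory.Qh
    (HomotopyCategory.quasiIso X.Modules (ComplexShape.up ℤ))
  Functor.whiskerLeft _ (DerivedCategory.quotientCompQhIso AddCommGrpCat.{u}).inv ≫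
    (Functor.associator _ _ _).inv ≫
    Functor.whiskerRight ((DCoh.gammaAb X).mapHomotopyCategoryFactors _).inv _ ≫
    Functor.whiskerLeft (HomotopyCategory.quotient X.Modules _) u ≫ (Functor.associator _ _ _).inv ≫
    Functor.whiskerRight (DerivedCategory.quotientCompQhIso X.Modules).hom (DCoh.RΓ X)

theorem isIso_gammaNat (I : CochainComplex X.Modules ℤ) [I.IsKInjective] : IsIso ((gammaNat X).app I) := by
  let u := (DCoh.gammaKh X).totalRightDerivedUnit DerivedCategory.Qh
    (HomotopyCategory.quasiIso X.Modules (ComplexShape.up ℤ))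
  have h1 : IsIso (u.app ((HomotopyCategory.quotient _ _).obj I)) :=
    KInjLib.isIso_app_of_isKInjective KInjLib.enoughKInj_of_grothendieck u I
  simp only [gammaNat, NatTrans.comp_app, Functor.whiskerLeft_app, Functor.whiskerRight_app,
    Functor.associator_inv_app]
  infer_instance

/-- A map between K-injective complexes inverted by `RΓ` has acyclic cone on sections. -/
theorem acyclic_gamma_cone {I J : CochainComplex X.Modules ℤ} [I.IsKInjective] [J.IsKInjective] (φ : I ⟶ J)
    (h : IsIso ((DCoh.RΓ X).map (DerivedCategory.Q.map φ))) (n : ℤ) :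
    (((DCoh.gammaAb X).mapHomologicalComplex (ComplexShape.up ℤ)).obj (CochainComplex.mappingCone φ)).ExactAt n := by
  let G := (DCoh.gammaAb X).mapHomologicalComplex (ComplexShape.up ℤ)
  haveI := isIso_gammaNat X I
  haveI := isIso_gammaNat X J
  have h1 : IsIso (DerivedCategory.Q.map (G.map φ)) := by
    have hn := (gammaNat X).naturality φ
    simp only [Functor.comp_map] at hn
    haveI : IsIso (DerivedCategory.Q.map (G.map φ) ≫ (gammaNat X).app J) := by
      rw [show DerivedCategory.Q.map (G.map φ) ≫ (gammaNat X).app J = _ from hn]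
      infer_instance
    exact IsIso.of_isIso_comp_right (DerivedCategory.Q.map (G.map φ)) ((gammaNat X).app J)
  have hz : IsZero (DerivedCategory.Q.obj (CochainComplex.mappingCone (G.map φ))) :=
    (Triangle.isZero₃_iff_isIso₁ _ (DerivedCategory.mappingCone_triangle_distinguished (G.map φ))).2 h1
  refine HomologicalComplex.ExactAt.of_iso ?_ (CochainComplex.mappingCone.mapHomologicalComplexIso φ (DCoh.gammaAb X)).symm
  exact (HomologicalComplex.exactAt_iff_isZero_homology _ _).2
    (((DerivedCategory.homologyFunctor _ n).map_isZero hz).of_iso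
      ((DerivedCategory.homologyFunctorFactors _ n).app _).symm)

variable {X}

theorem isIso_of_affine {Y : Scheme.{u}} [hR : ∀ U : Y.Opens, DCoh.HasRΓ (U : Scheme.{u})]
    [∀ U : Y.Opens, PreservesFiniteLimits (Scheme.Modules.restrictFunctor U.ι)]
    {G₁ G₂ : DCoh.D Y} (φ : G₁ ⟶ G₂)
    (h : ∀ U : Y.Opens, IsAffineOpen U → IsIso ((DCoh.RΓ (U : Scheme.{u})).map ((DCoh.restrictD U.ι).map φ))) :
    IsIso φ := by
  obtain ⟨I, q₁, hI, hq₁, -, -⟩ := KInjLib.exists_resolution (DerivedCategory.Q.objPreimage G₁)
  obtain ⟨J, q₂, hJ, hq₂, -, -⟩ := KInjLib.exists_resolution (DerivedCategory.Q.objPreimage G₂)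
  let e₁ : DerivedCategory.Q.obj I ≅ G₁ := (asIso (DerivedCategory.Q.map q₁)).symm ≪≫ DerivedCategory.Q.objObjPreimageIso G₁
  let e₂ : DerivedCategory.Q.obj J ≅ G₂ := (asIso (DerivedCategory.Q.map q₂)).symm ≪≫ DerivedCategory.Q.objObjPreimageIso G₂
  obtain ⟨ψ, hψ⟩ := KInjLib.exists_map_eq (e₁.hom ≫ φ ≫ e₂.inv)
  suffices hQ : IsIso (DerivedCategory.Q.map ψ) by
    have : φ = e₁.inv ≫ DerivedCategory.Q.map ψ ≫ e₂.hom := by rw [hψ]; simp
    rw [this]; infer_instance
  haveI := RHomAway9.isKInjective_mappingCone ψ
  refine (Triangle.isZero₃_iff_isIso₁ _ (DerivedCategory.mappingCone_triangle_distinguished ψ)).1 ?_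
  let C := CochainComplex.mappingCone ψ
  have hC : ∀ n, C.ExactAt n := fun n => by
    have hs : ∀ (W : Y.Opens), (∃ U : Y.Opens, IsAffineOpen U ∧ W = U.ι ''ᵁ ⊤) →
        ∀ b : Γ((C.sc n).X₂, W), (C.sc n).g.app W b = 0 → ∃ a, (C.sc n).f.app W a = b := by
      rintro W ⟨U, hU, rfl⟩ b hb
      haveI := DMV.isKInjective_restrict (U := U) I
      haveI := DMV.isKInjective_restrict (U := U) J
      let R := (Scheme.Modules.restrictFunctor U.ι).mapHomologicalComplex (ComplexShape.up ℤ)
      have hiso : IsIso ((DCoh.RΓ (U : Scheme.{u})).map (DerivedCategory.Q.map (R.map ψ))) := by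
        haveI := h U hU
        have hn := (Scheme.Modules.restrictFunctor U.ι).mapDerivedCategoryFactors.hom.naturality ψ
        let F := (Scheme.Modules.restrictFunctor U.ι).mapDerivedCategoryFactors
        have h2 : IsIso ((DCoh.RΓ (U : Scheme.{u})).map ((DCoh.restrictD U.ι).map (DerivedCategory.Q.map ψ))) := by
          rw [hψ, Functor.map_comp, Functor.map_comp, Functor.map_comp, Functor.map_comp]
          infer_instance
        have h3 : DerivedCategory.Q.map (R.map ψ) =
            F.inv.app I ≫ (DCoh.restrictD U.ι).map (DerivedCategory.Q.map ψ) ≫ F.hom.app J := by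
          rw [show (DCoh.restrictD U.ι).map (DerivedCategory.Q.map ψ) ≫ F.hom.app J = _ from hn, ← Category.assoc,
            Iso.inv_hom_id_app]
          exact (Category.id_comp _).symm
        rw [h3, Functor.map_comp, Functor.map_comp]
        infer_instance
      have hex := acyclic_gamma_cone (U : Scheme.{u}) (R.map ψ) hiso n
      have hex' : (((DCoh.gammaAb (U : Scheme.{u})).mapHomologicalComplex (ComplexShape.up ℤ)).obj (R.obj C)).ExactAt n :=
        hex.of_iso (((DCoh.gammaAb (U : Scheme.{u})).mapHomologicalComplex (ComplexShape.up ℤ)).mapIso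
          (CochainComplex.mappingCone.mapHomologicalComplexIso ψ (Scheme.Modules.restrictFunctor U.ι)).symm)
      exact (ShortComplex.ab_exact_iff _).1 hex' b hb
    refine KoszShH13.exact_of_basis KoszShH13.isAffBasis_top (C.sc n) fun V _ b hb => ?_
    exact hs V.1 ⟨V.1, V.2, (Scheme.Opens.ι_image_top _).symm⟩ b hb
  haveI : QuasiIso (0 : C ⟶ (0 : CochainComplex Y.Modules ℤ)) := ⟨fun n => by
    rw [quasiIsoAt_iff_exactAt']
    · exact hC n
    · exact (HomologicalComplex.exactAt_iff_isZero_homology _ _).2
        ((HomologicalComplex.homologyFunctor _ _ n).map_isZero (isZero_zero _))⟩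
  exact (DerivedCategory.Q.map_isZero (isZero_zero _)).of_iso (asIso (DerivedCategory.Q.map (0 : C ⟶ 0)))

end Groth.Agent.RGammaLocal9
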